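import Groth.Agent.Krr.H484.PnHom
import Groth.Agent.Ega3B.ProjFrame

/-!
# The universal property of projective space over a scheme

* `compat_iff`: the compatibility in `KRR.IsProjBundle`, for a free module, in terms of sections.
* `isProjBundle_spec`: `P^r_A` with `O(1)` and the coordinates is the projective bundle of `O^{r+1}` on `Spec A`.
* `isProjBundle_over`: `P^r_S` with `O(1)` and the coordinates is the projective bundle of `O_S^{r+1}`.
-/

set_option autoImplicit false
universe u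
open CategoryTheory CategoryTheory.Limits AlgebraicGeometry TopologicalSpace Opposite
open Groth.Agent.Fdesc.LocGen

namespace Groth.Agent.Krr.H484.PnFree

open Groth.Agent.Krr.H484.FreeSec Groth.Agent.Krr.H484.PnHom

variable {S P T : Scheme.{u}}

theorem compat_iff {n : ℕ} (π : P ⟶ S) {O1 : P.Modules} (t : Fin n → Γ(O1, ⊤)) (g : T ⟶ S) {L : T.Modules}
    (s : (Scheme.Modules.pullback g).obj (FlatMod.freeMod S n) ⟶ L) (h : T ⟶ P) (hg : h ≫ π = g)
    (e : (Scheme.Modules.pullback h).obj O1 ≅ L) :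
    ((Scheme.Modules.pullbackCongr hg).inv.app (FlatMod.freeMod S n) ≫
      (Scheme.Modules.pullbackComp h π).inv.app (FlatMod.freeMod S n) ≫
        (Scheme.Modules.pullback h).map (ofSecs π t) ≫ e.hom = s) ↔
      ∀ j, e.hom.app ⊤ (pullTop h (t j)) = secs g s j := by
  have key : ∀ j, secs g ((Scheme.Modules.pullbackCongr hg).inv.app (FlatMod.freeMod S n) ≫
      (Scheme.Modules.pullbackComp h π).inv.app (FlatMod.freeMod S n) ≫
        (Scheme.Modules.pullback h).map (ofSecs π t) ≫ e.hom) j = e.hom.app ⊤ (pullTop h (t j)) := by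
    intro j
    rw [secs_congr hg, ← Category.assoc, secs_comp, secs_pull, secs_ofSecs]
  constructor
  · intro hs j
    rw [← hs, key]
  · intro hs
    apply secs_injective
    intro j
    rw [key, hs]

theorem isFinLocFreeOfRank_twistProjSpace (r : ℕ) (A : Type u) [CommRing A] :
    FlatMod.IsFinLocFreeOfRank (X := CohB1.ProjSpace r A) 1 (Twist.twistProjSpace r A 1) :=
  Groth.Agent.Ega2.QCohLocal.isFinLocFreeOfRank_one_iff.2
    (Groth.Agent.Ega3B.ProjFrame.isInvertible_twistProjSpace r A 1)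

theorem isFinLocFreeOfRank_twistOver (r : ℕ) (S : Scheme.{u}) :
    FlatMod.IsFinLocFreeOfRank 1 (Twist.twistOver r S 1) :=
  Groth.Agent.Ega2.QCohLocal.isFinLocFreeOfRank_one_iff.2
    (Groth.Agent.Ega3B.ProjFrame.isInvertible_twistOver r 1)

theorem iSup_genLocus_coordSec (r : ℕ) (A : Type u) [CommRing A] :
    ⨆ j, CohB1.genLocus (X := CohB1.ProjSpace r A) (Twist.twistProjSpace r A 1)
      (homOf (coordSec r A j)) = ⊤ := by
  rw [eq_top_iff, ← Groth.Agent.CurvesC.ProjSpaceBasic.iSup_Dp r A]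
  apply iSup_mono
  intro j
  apply (le_genLocus_iff _ _).2
  rw [coordSec, homOf_sec]
  exact isGen_coordSec r A j

/-- The canonical quotient `O^{r+1} ⟶ O(1)` on `P^r_A`. -/
noncomputable def canSpec (r : ℕ) (A : Type u) [CommRing A] :
    (Scheme.Modules.pullback (CohB1.ProjSpace.toSpec r A)).obj
      (FlatMod.freeMod (Spec (CommRingCat.of A)) (r + 1)) ⟶ Twist.twistProjSpace r A 1 :=
  ofSecs (CohB1.ProjSpace.toSpec r A) (coordSec r A)

/-- **`P^r_A` is the projective bundle of `O^{r+1}` on `Spec A`.** -/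
theorem isProjBundle_spec (r : ℕ) (A : Type u) [CommRing A] :
    KRR.IsProjBundle (CohB1.ProjSpace.toSpec r A) (FlatMod.freeMod (Spec (CommRingCat.of A)) (r + 1))
      (Twist.twistProjSpace r A 1) (canSpec r A) where
  invertible := isFinLocFreeOfRank_twistProjSpace r A
  epi := by
    apply epi_of_genLocus
    simp only [canSpec, secs_ofSecs]
    exact iSup_genLocus_coordSec r A
  univ := by
    intro T g L hL s hs
    have hL' := Groth.Agent.Ega2.QCohLocal.isFinLocFreeOfRank_one_iff.1 hL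
    have h1 := genLocus_of_epi g hL' s
    obtain ⟨φ, hφ, e, he⟩ := exists_hom g L (secs g s) h1
    refine ⟨φ, ⟨hφ, e, (compat_iff _ _ _ _ _ _ _).2 he⟩, ?_⟩
    rintro φ' ⟨hφ', e', he'⟩
    exact hom_unique hφ' hφ e' e ((compat_iff _ _ _ _ _ _ _).1 he') he

/-- The coordinates on `P^r_S`. -/
noncomputable def coordOver (r : ℕ) (S : Scheme.{u}) (j : Fin (r + 1)) : Γ(Twist.twistOver r S 1, ⊤) :=
  pullTop (pullback.fst (CohB1.ProjSpace.toSpec r (ULift.{u} ℤ)) (specULiftZIsTerminal.from S))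
    (coordSec r (ULift.{u} ℤ) j)

/-- The canonical quotient `O^{r+1} ⟶ O(1)` on `P^r_S`. -/
noncomputable def canOver (r : ℕ) (S : Scheme.{u}) :
    (Scheme.Modules.pullback (KRR.pr r S)).obj (FlatMod.freeMod S (r + 1)) ⟶ Twist.twistOver r S 1 :=
  ofSecs (KRR.pr r S) (coordOver r S)

theorem genLocus_pullTop {L : P.Modules} (f : T ⟶ P) (s : Γ(L, ⊤)) :
    f ⁻¹ᵁ (CohB1.genLocus L (homOf s)) ≤
      CohB1.genLocus ((Scheme.Modules.pullback f).obj L) (homOf (pullTop f s)) := by
  apply (le_genLocus_iff _ _).2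
  rw [sec_homOf]
  have h1 := (isGen_sec_genLocus (homOf s)).pullSec f
  rw [sec_homOf] at h1
  have h2 := res_pullSec f (le_top : CohB1.genLocus L (homOf s) ≤ ⊤) s
  have h3 : res ((Scheme.Modules.pullback f).obj L) le_top (pullTop f s) =
      pullSec f (res L (le_top : CohB1.genLocus L (homOf s) ≤ ⊤) s) := h2
  rw [h3]
  exact h1

theorem iSup_genLocus_coordOver (r : ℕ) (S : Scheme.{u}) :
    ⨆ j, CohB1.genLocus (Twist.twistOver r S 1) (homOf (coordOver r S j)) = ⊤ := by
  rw [eq_top_iff]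
  have h1 : (⊤ : (KRR.PY r S).Opens) =
      ⨆ j, (pullback.fst (CohB1.ProjSpace.toSpec r (ULift.{u} ℤ)) (specULiftZIsTerminal.from S)) ⁻¹ᵁ
        (CohB1.genLocus (X := CohB1.ProjSpace r (ULift.{u} ℤ)) (Twist.twistProjSpace r (ULift.{u} ℤ) 1)
          (homOf (coordSec r (ULift.{u} ℤ) j))) := by
    rw [← Scheme.Hom.preimage_iSup, iSup_genLocus_coordSec]
    rfl
  rw [h1]
  exact iSup_mono fun j => genLocus_pullTop _ _

/-- Changing the morphism in the pull-back of sections along an equality. -/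
theorem pullTop_congr {f f' : T ⟶ P} (h : f = f') {L : P.Modules} (s : Γ(L, ⊤)) :
    ((Scheme.Modules.pullbackCongr h).hom.app L).app ⊤ (pullTop f s) = pullTop f' s := by
  subst h
  have : (Scheme.Modules.pullbackCongr (rfl : f = f)).hom.app L = 𝟙 _ := by
    simp [Scheme.Modules.pullbackCongr]
  rw [this]
  rfl

/-- **`P^r_S` is the projective bundle of `O_S^{r+1}`.** -/
theorem isProjBundle_over (r : ℕ) (S : Scheme.{u}) :
    KRR.IsProjBundle (KRR.pr r S) (FlatMod.freeMod S (r + 1)) (Twist.twistOver r S 1) (canOver r S) where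
  invertible := isFinLocFreeOfRank_twistOver r S
  epi := by
    apply epi_of_genLocus
    simp only [canOver, secs_ofSecs]
    exact iSup_genLocus_coordOver r S
  univ := by
    intro T g L hL s hs
    have hL' := Groth.Agent.Ega2.QCohLocal.isFinLocFreeOfRank_one_iff.1 hL
    have h1 := genLocus_of_epi g hL' s
    let fst := pullback.fst (CohB1.ProjSpace.toSpec r (ULift.{u} ℤ)) (specULiftZIsTerminal.from S)
    obtain ⟨φ, hφ, e, he⟩ := exists_hom (g ≫ specULiftZIsTerminal.from S) L (secs g s) h1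
    -- the comparison of isomorphisms
    have conv : ∀ (h : T ⟶ KRR.PY r S) (φ : T ⟶ CohB1.ProjSpace r (ULift.{u} ℤ)) (hh : h ≫ fst = φ),
        ∃ ε : (Scheme.Modules.pullback φ).obj (Twist.twistProjSpace r (ULift.{u} ℤ) 1) ≅
          (Scheme.Modules.pullback h).obj (Twist.twistOver r S 1), ∀ j,
            ε.hom.app ⊤ (pullTop φ (coordSec r (ULift.{u} ℤ) j)) = pullTop h (coordOver r S j) := by
      intro h φ hh
      subst hh
      exact ⟨((Scheme.Modules.pullbackComp h fst).app _).symm, fun j =>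
        pullSec_comp h fst (U := ⊤) (coordSec r (ULift.{u} ℤ) j)⟩
    let h : T ⟶ KRR.PY r S := pullback.lift φ g hφ
    have hh : h ≫ fst = φ := pullback.lift_fst _ _ _
    have hg : h ≫ KRR.pr r S = g := pullback.lift_snd _ _ _
    refine ⟨h, ⟨hg, ?_⟩, ?_⟩
    · obtain ⟨ε, hε⟩ := conv h φ hh
      refine ⟨ε.symm ≪≫ e, (compat_iff _ _ _ _ _ _ _).2 fun j => ?_⟩
      rw [← he j, ← hε j]
      have : (ε.hom ≫ (ε.symm ≪≫ e).hom) = e.hom := by simp
      exact congr(($this).app ⊤ (pullTop φ (coordSec r (ULift.{u} ℤ) j)))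
    · rintro h' ⟨hg', e', he'⟩
      obtain ⟨ε, hε⟩ := conv h' (h' ≫ fst) rfl
      have h2 := (compat_iff _ _ _ _ _ _ _).1 he'
      have h3 : h' ≫ fst = φ := by
        refine hom_unique (g := g ≫ specULiftZIsTerminal.from S) (s := secs g s) ?_ hφ (ε ≪≫ e') e ?_ he
        · rw [← hg', Category.assoc, Category.assoc]
          exact congrArg (h' ≫ ·) pullback.condition
        · intro j
          rw [← h2 j, ← hε j]
          rfl
      apply pullback.hom_ext
      · exact h3.trans hh.symm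
      · exact hg'.trans hg.symm

theorem exists_isProjBundle_free (r : ℕ) (S : Scheme.{u}) :
    ∃ q : (Scheme.Modules.pullback (KRR.pr r S)).obj (FlatMod.freeMod S (r + 1)) ⟶ Twist.twistOver r S 1,
      KRR.IsProjBundle (KRR.pr r S) (FlatMod.freeMod S (r + 1)) (Twist.twistOver r S 1) q :=
  ⟨_, isProjBundle_over r S⟩

end Groth.Agent.Krr.H484.PnFree
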