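import Groth.Agent.Krr.H484.PBUnique
import Groth.Agent.Krr.H484.PnFree
import Groth.Agent.PerfB.FlatPull

/-!
# Charts of a projective bundle

For a projective bundle `(π : P ⟶ X, O(1), q)` of a finite locally free module of rank `r + 1`, locally on `X` it is
`P^r_A` with its `O(1)`.
-/

set_option autoImplicit false
universe u
open CategoryTheory CategoryTheory.Limits AlgebraicGeometry TopologicalSpace Opposite
open Groth.Agent.Fdesc.LocGen

namespace Groth.Agent.Krr.H484.PBCharts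

open Groth.Agent.Krr.H484.PullExt Groth.Agent.Krr.H484.PBTransport Groth.Agent.Krr.H484.PBUnique

variable {X P : Scheme.{u}}

/-- A trivialisation of `h^*E` on `Spec A` gives a chart of the projective bundle. -/
theorem exists_chart {r : ℕ} {π : P ⟶ X} {E : X.Modules} {O1 : P.Modules}
    {q : (Scheme.Modules.pullback π).obj E ⟶ O1} (B : KRR.IsProjBundle π E O1 q) {A : Type u} [CommRing A]
    (h : Spec (CommRingCat.of A) ⟶ X)
    (τ : (Scheme.Modules.pullback h).obj E ≅ FlatMod.freeMod (Spec (CommRingCat.of A)) (r + 1)) :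
    ∃ j : CohB1.ProjSpace r A ⟶ P, IsPullback j (CohB1.ProjSpace.toSpec r A) π h ∧
      Nonempty ((Scheme.Modules.pullback j).obj O1 ≅ Twist.twistProjSpace r A 1) := by
  have sq := IsPullback.of_hasPullback π h
  have B' := of_iso τ (baseChange sq B)
  obtain ⟨φ, hg, e, -⟩ := exists_iso (Groth.Agent.Krr.H484.PnFree.isProjBundle_spec r A) B'
  refine ⟨φ.hom ≫ pullback.fst π h, ?_, ⟨?_⟩⟩
  · exact sq.of_iso φ.symm (Iso.refl _) (Iso.refl _) (Iso.refl _) (by simp) (by simp [← hg]) (by simp) (by simp)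
  · exact ((Scheme.Modules.pullbackComp φ.hom (pullback.fst π h)).symm.app O1) ≪≫ e

/-- An affine chart of `X` around a point, trivialising `E`. -/
theorem exists_triv {n : ℕ} {E : X.Modules} (hE : FlatMod.IsFinLocFreeOfRank n E) (x : X) :
    ∃ (W : X.Opens) (hW : IsAffineOpen W), x ∈ W ∧
      Nonempty ((Scheme.Modules.pullback hW.fromSpec).obj E ≅ FlatMod.freeMod (Spec Γ(X, W)) n) := by
  obtain ⟨U, hx, ⟨t⟩⟩ := hE x
  obtain ⟨W, hW, hxW, hWU⟩ := exists_isAffineOpen_mem_and_subset (X := X) (U := U) hx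
  refine ⟨W, hW, hxW, ⟨?_⟩⟩
  have hr : Set.range hW.fromSpec ⊆ Set.range U.ι := by
    rw [hW.range_fromSpec, Scheme.Opens.range_ι]
    exact hWU
  let k : Spec Γ(X, W) ⟶ U := IsOpenImmersion.lift U.ι hW.fromSpec hr
  have hk : k ≫ U.ι = hW.fromSpec := IsOpenImmersion.lift_fac _ _ _
  exact (Scheme.Modules.pullbackCongr hk.symm).app E ≪≫ (Scheme.Modules.pullbackComp k U.ι).symm.app E ≪≫
    (Scheme.Modules.pullback k).mapIso ((Scheme.Modules.restrictFunctorIsoPullback U.ι).symm.app E ≪≫ t) ≪≫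
    Groth.Agent.PerfB.FlatPull.pullbackFreeMod k n

/-- **Charts of a projective bundle** over a quasi-compact base. -/
theorem exists_charts [CompactSpace X] {r : ℕ} {π : P ⟶ X} {E : X.Modules}
    (hE : FlatMod.IsFinLocFreeOfRank (r + 1) E) {O1 : P.Modules}
    {q : (Scheme.Modules.pullback π).obj E ⟶ O1} (B : KRR.IsProjBundle π E O1 q) :
    ∃ (ι : Type) (_ : Finite ι) (A : ι → Type u) (_ : ∀ i, CommRing (A i))
      (h : ∀ i, Spec (CommRingCat.of (A i)) ⟶ X) (j : ∀ i, CohB1.ProjSpace r (A i) ⟶ P),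
      (∀ i, IsOpenImmersion (h i)) ∧ (∀ x : X, ∃ i, x ∈ Set.range (h i)) ∧
      (∀ i, IsPullback (j i) (CohB1.ProjSpace.toSpec r (A i)) π (h i)) ∧
      (∀ i, Nonempty ((Scheme.Modules.pullback (j i)).obj O1 ≅ Twist.twistProjSpace r (A i) 1)) := by
  choose W hW hx t using fun x : X => exists_triv hE x
  obtain ⟨F, hF⟩ := (isCompact_univ (X := X)).elim_finite_subcover (fun x : X => (W x : Set X))
    (fun x => (W x).isOpen) (fun x _ => Set.mem_iUnion.2 ⟨x, hx x⟩)
  choose j hj hO using fun i : Fin F.card =>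
    exists_chart B (A := Γ(X, W (F.equivFin.symm i).1)) (hW (F.equivFin.symm i).1).fromSpec
      (t (F.equivFin.symm i).1).some
  refine ⟨Fin F.card, inferInstance, fun i => Γ(X, W (F.equivFin.symm i).1), fun i => inferInstance,
    fun i => (hW (F.equivFin.symm i).1).fromSpec, j, fun i => inferInstance, fun x => ?_, hj, hO⟩
  obtain ⟨y, hy⟩ := Set.mem_iUnion.1 (hF (Set.mem_univ x))
  obtain ⟨hyF, hxy⟩ := Set.mem_iUnion.1 hy
  refine ⟨F.equivFin ⟨y, hyF⟩, ?_⟩
  rw [(hW _).range_fromSpec]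
  simpa using hxy

end Groth.Agent.Krr.H484.PBCharts
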