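import Groth.Agent.Krr.H483.Main
import Groth.Agent.Krr.H483.ExistsPB

/-!
# The splitting property of `K(X)` from the injectivity of `K(X) → K(P(E))`

* `InjK`: the pull-back to a projective bundle is injective on `K` (models in the universe `u + 1`);
* `splits`: from `InjK`, every finite locally free module of rank `m` splits in `K` after an injective pull-back;
* `hasSplitting`: `LambdaRing.HasSplitting` (S3785) from `InjK`; `hasSplitting_of_splits` from the splitting
  statement itself.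
-/

set_option autoImplicit false

universe v w u

open CategoryTheory CategoryTheory.Limits AlgebraicGeometry

namespace Groth.Agent.Krr.H484.Split

open KRR Groth.Agent.Krr.H482.PullLambda Groth.Agent.Krr.H482.PullFinal Groth.Agent.Krr.H483.Main

/-- The pull-back to a projective bundle is injective on `K`. -/
def InjK : Prop :=
  ∀ (X P : Scheme.{u}) (_ : IsNoetherian X) (_ : ConnectedSpace ↥X) (_ : IsNoetherian P) (_ : ConnectedSpace ↥P)
    (r : ℕ) (E : X.Modules) (_ : FlatMod.IsFinLocFreeOfRank (r + 1) E)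
    (π : P ⟶ X) (O1 : P.Modules) (q : (Scheme.Modules.pullback π).obj E ⟶ O1) (_ : KRR.IsProjBundle π E O1 q)
    (KX : Type (u + 1)) [CommRing KX] [LambdaRing.LambdaOps KX] (PX : LambdaRing.PosStructure KX)
    (φX : SGA6.Kvb X →+ KX) (_ : KRR.IsModel X KX PX φX)
    (KP : Type (u + 1)) [CommRing KP] [LambdaRing.LambdaOps KP] (PP : LambdaRing.PosStructure KP)
    (φP : SGA6.Kvb P →+ KP) (_ : KRR.IsModel P KP PP φP)
    (g : KX →+ KP) (_ : KRR.IsPull π φX φP g), Function.Injective g

/-- The splitting of one finite locally free module. -/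
def Splits {X : Scheme.{u}} {K : Type v} [CommRing K] (φ : SGA6.Kvb X →+ K) (m : ℕ) (E : X.Modules) : Prop :=
  ∃ (X' : Scheme.{u}) (_ : IsNoetherian X') (_ : ConnectedSpace ↥X') (f : X' ⟶ X)
      (K' : Type (u + 1)) (_ : CommRing K') (_ : LambdaRing.LambdaOps K') (P' : LambdaRing.PosStructure K')
      (φ' : SGA6.Kvb X' →+ K') (_ : KRR.IsModel X' K' P' φ') (g : K →+ K') (_ : KRR.IsPull f φ φ' g),
      Function.Injective g ∧
      ∃ L : Fin m → X'.Modules, (∀ j, FlatMod.IsFinLocFreeOfRank 1 (L j)) ∧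
        g (φ (KRR.cl X E)) = ∑ j, φ' (KRR.cl X' (L j))

theorem FreeK.injK (hF : FreeK.{u}) : InjK.{u} := by
  intro X P hNX hCX hNP hCP r E hE π O1 q hPB KX _ _ PX φX hKX KP _ _ PP φP hKP g hg x y hxy
  have h := @(hF X P hNX hCX hNP hCP r E hE π O1 q hPB KX PX φX hKX KP PP φP hKP g hg).1
    (fun i => if i = 0 then x else 0) (fun i => if i = 0 then y else 0) ?_
  · simpa using congrFun h 0
  · simp only
    refine Finset.sum_congr rfl fun i _ => ?_
    split_ifs <;> simp [hxy]

/-- Every finite locally free module of rank `m` splits after an injective pull-back. -/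
theorem splits (hI : InjK.{u}) (m : ℕ) : ∀ (X : Scheme.{u}) (_ : IsNoetherian X)
    (_ : ConnectedSpace ↥X) (K : Type (u + 1)) [CommRing K] [LambdaRing.LambdaOps K]
    (P : LambdaRing.PosStructure K) (φ : SGA6.Kvb X →+ K) (_ : KRR.IsModel X K P φ) (E : X.Modules)
    (_ : FlatMod.IsFinLocFreeOfRank m E), Splits φ m E := by
  induction m with
  | zero =>
    intro X hN hC K _ _ P φ hK E hE
    refine ⟨X, hN, hC, 𝟙 X, K, inferInstance, inferInstance, P, φ, hK, AddMonoidHom.id K,
      isPull_id fun E _ => rfl, Function.injective_id, Fin.elim0, fun j => j.elim0, ?_⟩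
    rw [Finset.univ_eq_empty, Finset.sum_empty, AddMonoidHom.id_apply]
    have h0 : cl X E = 0 :=
      Groth.Agent.Sga67.SesImage.clSub_zero (vbP X) (Groth.Agent.Krr.H487.Taut.isZero_of_rank_zero hE)
    rw [h0, map_zero]
  | succ r ih =>
    intro X hN hC K _ _ P φ hK E hE
    obtain ⟨Y, hNY, hCY, π, O1, q, hPB⟩ := Groth.Agent.Krr.H483.ExistsPB.existsPB X hN hC r E hE
    have hKY := Groth.Agent.Krr.H495.Model.isModel Y
    obtain ⟨g₁, hg₁⟩ := exists_isPull π hK.bijective (Groth.Agent.Sga67.KvbRing.toKR Y).toAddMonoidHom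
    have hinj₁ : Function.Injective g₁ :=
      hI X Y hN hC hNY hCY r E hE π O1 q hPB _ _ _ hK _ _ _ hKY g₁ hg₁
    obtain ⟨H, hH, hcl⟩ := cl_pull hE hPB hg₁
    obtain ⟨X', hN', hC', f, K', _, _, P', φ', hK', g, hg, hinj, L, hL, hsum⟩ := ih Y hNY hCY _ _ _ hKY H hH
    refine ⟨X', hN', hC', f ≫ π, K', inferInstance, inferInstance, P', φ', hK', g.comp g₁,
      isPull_comp hg hg₁, hinj.comp hinj₁, Fin.cons ((Scheme.Modules.pullback f).obj O1) L, ?_, ?_⟩
    · intro j
      refine Fin.cases ?_ (fun i => ?_) j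
      · exact isFinLocFreeOfRank_pullback f hPB.invertible
      · exact hL i
    · rw [Fin.sum_univ_succ]
      simp only [Fin.cons_zero, Fin.cons_succ]
      rw [AddMonoidHom.comp_apply, hcl, map_add, hsum, hg O1 (isFinLocFree_of_rank hPB.invertible), add_comm]

/-- A line element from an invertible module. -/
theorem isLine_of_rank_one {X : Scheme.{u}} {K : Type v} [CommRing K] [LambdaRing.LambdaOps K]
    {P : LambdaRing.PosStructure K} {φ : SGA6.Kvb X →+ K} (hK : KRR.IsModel X K P φ) {L : X.Modules}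
    (hL : FlatMod.IsFinLocFreeOfRank 1 L) : P.IsLine (φ (cl X L)) :=
  ⟨(hK.mem_pos_iff _).2 ⟨1, L, le_rfl, hL, rfl⟩, by rw [hK.aug_cl _ L hL]; simp⟩

/-- The class of all models of `K` of connected Noetherian schemes has the splitting property. -/
theorem hasSplitting_of_splits
    (hS : ∀ (m : ℕ) (X : Scheme.{u}) (_ : IsNoetherian X) (_ : ConnectedSpace ↥X) (K : Type (u + 1))
      [CommRing K] [LambdaRing.LambdaOps K] (P : LambdaRing.PosStructure K) (φ : SGA6.Kvb X →+ K)
      (_ : KRR.IsModel X K P φ) (E : X.Modules) (_ : FlatMod.IsFinLocFreeOfRank m E), Splits φ m E)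
    (X : Scheme.{u}) [IsNoetherian X] [ConnectedSpace ↥X]
    (K : Type (u + 1)) [CommRing K] [LambdaRing.LambdaOps K] (P : LambdaRing.PosStructure K)
    (φ : SGA6.Kvb X →+ K) (hK : KRR.IsModel X K P φ) : LambdaRing.HasSplitting K P := by
  refine ⟨{L | ∃ (Y : Scheme.{u}) (_ : IsNoetherian Y) (_ : ConnectedSpace ↥Y) (ψ : SGA6.Kvb Y →+ L.carrier),
    KRR.IsModel Y L.carrier L.posStr ψ}, ⟨X, inferInstance, inferInstance, φ, hK⟩, ?_⟩
  rintro L ⟨Y, hNY, hCY, ψ, hL⟩ e he
  obtain ⟨m, E, hm, hE, rfl⟩ := (hL.mem_pos_iff _).1 he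
  obtain ⟨X', hN', hC', f, K', _, _, P', φ', hK', g, hg, hinj, M, hM, hsum⟩ :=
    hS m Y hNY hCY L.carrier L.posStr ψ hL E hE
  refine ⟨⟨K', P'⟩, ⟨X', hN', hC', φ', hK'⟩, pullRingHom hK' hL hg, isExtension_pull hK' hL hg hinj,
    (Finset.univ.val.map fun j => φ' (cl X' (M j))), ?_, ?_⟩
  · intro u hu
    obtain ⟨j, -, rfl⟩ := Multiset.mem_map.1 hu
    exact isLine_of_rank_one hK' (hM j)
  · exact hsum.symm

/-- S3785 from the injectivity of the pull-back to projective bundles. -/
theorem hasSplitting (hI : InjK.{u}) (X : Scheme.{u}) [IsNoetherian X] [ConnectedSpace ↥X]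
    (K : Type (u + 1)) [CommRing K] [LambdaRing.LambdaOps K] (P : LambdaRing.PosStructure K)
    (φ : SGA6.Kvb X →+ K) (hK : KRR.IsModel X K P φ) : LambdaRing.HasSplitting K P :=
  hasSplitting_of_splits (splits hI) X K P φ hK

end Groth.Agent.Krr.H484.Split
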