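import Groth.Prelude.Def_KRR
import Groth.Agent.Fdesc.LocGenPullback

/-!
# Morphisms out of the pull-back of a free module, in terms of sections

* `bas S n j`: the `j`-th basis section of `O_S^n`.
* `secs g ψ j`: the `j`-th section of `L` defined by `ψ : g^* O_S^n ⟶ L`.
* `secs_bijective`: `ψ ↦ secs g ψ` is a bijection.
* `epi_iff`: for `L` invertible, `ψ` is an epimorphism iff the sections generate `L`.
-/

set_option autoImplicit false
universe u
open CategoryTheory CategoryTheory.Limits AlgebraicGeometry TopologicalSpace Opposite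
open Groth.Agent.Fdesc.LocGen

namespace Groth.Agent.Krr.H484.FreeSec

variable {S T W : Scheme.{u}}

/-- The `j`-th basis section of the free module. -/
noncomputable def bas (S : Scheme.{u}) (n : ℕ) (j : Fin n) : Γ(FlatMod.freeMod S n, ⊤) :=
  sec (Sigma.ι (fun _ : Fin n => Coh.structureModule S) j) ⊤

/-- The `j`-th section of a morphism `g^* O^n ⟶ L`. -/
noncomputable def secs (g : T ⟶ S) {n : ℕ} {L : T.Modules}
    (ψ : (Scheme.Modules.pullback g).obj (FlatMod.freeMod S n) ⟶ L) (j : Fin n) : Γ(L, ⊤) :=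
  ψ.app ⊤ (pullTop g (bas S n j))

theorem secs_comp (g : T ⟶ S) {n : ℕ} {L L' : T.Modules}
    (ψ : (Scheme.Modules.pullback g).obj (FlatMod.freeMod S n) ⟶ L) (φ : L ⟶ L') (j : Fin n) :
    secs g (ψ ≫ φ) j = φ.app ⊤ (secs g ψ j) := rfl

theorem secs_eq (g : T ⟶ S) {n : ℕ} {L : T.Modules}
    (ψ : (Scheme.Modules.pullback g).obj (FlatMod.freeMod S n) ⟶ L) (j : Fin n) :
    secs g ψ j = (sec (Sigma.ι (fun _ : Fin n => Coh.structureModule S) j ≫
      (Scheme.Modules.pullbackPushforwardAdjunction g).homEquiv _ _ ψ) ⊤ :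
        Γ((Scheme.Modules.pushforward g).obj L, ⊤)) := by
  rw [sec_comp]
  exact (homEquiv_app_top g ψ (bas S n j)).symm

theorem secs_injective (g : T ⟶ S) {n : ℕ} {L : T.Modules}
    {ψ ψ' : (Scheme.Modules.pullback g).obj (FlatMod.freeMod S n) ⟶ L}
    (h : ∀ j, secs g ψ j = secs g ψ' j) : ψ = ψ' := by
  apply ((Scheme.Modules.pullbackPushforwardAdjunction g).homEquiv _ _).injective
  apply Sigma.hom_ext
  intro j
  apply hom_ext_sec
  have h1 := h j
  rw [secs_eq, secs_eq] at h1
  exact h1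

/-- The morphism `g^* O^n ⟶ L` with given sections. -/
noncomputable def ofSecs (g : T ⟶ S) {n : ℕ} {L : T.Modules} (s : Fin n → Γ(L, ⊤)) :
    (Scheme.Modules.pullback g).obj (FlatMod.freeMod S n) ⟶ L :=
  ((Scheme.Modules.pullbackPushforwardAdjunction g).homEquiv _ _).symm
    (Sigma.desc fun j => homOf (M := (Scheme.Modules.pushforward g).obj L)
      (show Γ((Scheme.Modules.pushforward g).obj L, ⊤) from s j))

@[simp] theorem secs_ofSecs (g : T ⟶ S) {n : ℕ} {L : T.Modules} (s : Fin n → Γ(L, ⊤)) (j : Fin n) :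
    secs g (ofSecs g s) j = s j := by
  rw [secs_eq, ofSecs, Equiv.apply_symm_apply, Sigma.ι_desc, sec_homOf, res_refl]

@[simp] theorem secs_zero (g : T ⟶ S) {n : ℕ} {L : T.Modules} (j : Fin n) :
    secs g (0 : (Scheme.Modules.pullback g).obj (FlatMod.freeMod S n) ⟶ L) j = 0 := rfl

/-- Sections of the pull-back of a morphism. -/
theorem secs_pull (i : W ⟶ T) (g : T ⟶ S) {n : ℕ} {L : T.Modules}
    (ψ : (Scheme.Modules.pullback g).obj (FlatMod.freeMod S n) ⟶ L) (j : Fin n) :
    secs (i ≫ g) ((Scheme.Modules.pullbackComp i g).inv.app _ ≫ (Scheme.Modules.pullback i).map ψ) j =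
      pullTop i (secs g ψ j) := by
  have h1 : ((Scheme.Modules.pullbackComp i g).inv.app (FlatMod.freeMod S n)).app ⊤
      (pullTop (i ≫ g) (bas S n j)) = pullTop i (pullTop g (bas S n j)) :=
    pullSec_comp i g (bas S n j)
  have h2 := pullback_map_pullSec i ψ (U := ⊤) (pullTop g (bas S n j))
  exact (congrArg (((Scheme.Modules.pullback i).map ψ).app ⊤) h1).trans h2

/-- Sections after a change of the morphism by an equality. -/
theorem secs_congr {g g' : T ⟶ S} (h : g' = g) {n : ℕ} {L : T.Modules}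
    (ψ : (Scheme.Modules.pullback g').obj (FlatMod.freeMod S n) ⟶ L) (j : Fin n) :
    secs g ((Scheme.Modules.pullbackCongr h).inv.app _ ≫ ψ) j = secs g' ψ j := by
  subst h
  have : (Scheme.Modules.pullbackCongr (rfl : g' = g')).inv.app (FlatMod.freeMod S n) = 𝟙 _ := by
    simp [Scheme.Modules.pullbackCongr]
  rw [this, Category.id_comp]

/-- Two morphisms out of a module generated by global sections agreeing on them are equal. -/
theorem hom_ext_of_genLocus {L N : T.Modules} {I : Type*} (s : I → Γ(L, ⊤))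
    (hs : ⨆ j, CohB1.genLocus L (homOf (s j)) = ⊤) {φ φ' : L ⟶ N}
    (h : ∀ j, φ.app ⊤ (s j) = φ'.app ⊤ (s j)) : φ = φ' := by
  apply Scheme.Modules.hom_ext
  intro V
  ext m
  refine res_ext N (fun j => V ⊓ CohB1.genLocus L (homOf (s j))) (fun j => inf_le_left)
    (by rw [← inf_iSup_eq, hs, inf_top_eq]) (fun j => ?_)
  rw [← app_res, ← app_res]
  have hg : IsGen (sec (homOf (s j)) (V ⊓ CohB1.genLocus L (homOf (s j)))) :=
    (le_genLocus_iff _ _).1 inf_le_right
  obtain ⟨a, ha⟩ := hg.exists_eq (res L inf_le_left m)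
  rw [ha, Scheme.Modules.Hom.app_smul, Scheme.Modules.Hom.app_smul, sec_homOf, app_res, app_res, h j]

theorem epi_of_genLocus (g : T ⟶ S) {n : ℕ} {L : T.Modules}
    (ψ : (Scheme.Modules.pullback g).obj (FlatMod.freeMod S n) ⟶ L)
    (hs : ⨆ j, CohB1.genLocus L (homOf (secs g ψ j)) = ⊤) : Epi ψ := by
  refine ⟨fun φ φ' h => hom_ext_of_genLocus _ hs fun j => ?_⟩
  rw [← secs_comp, ← secs_comp, h]

theorem fromSpecResidueField_preimage (x : T) (U : T.Opens) (hx : x ∈ U) :
    T.fromSpecResidueField x ⁻¹ᵁ U = ⊤ := by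
  ext y
  simp only [Opens.coe_top, Set.mem_univ, iff_true]
  change T.fromSpecResidueField x y ∈ U
  rw [Scheme.fromSpecResidueField_apply]
  exact hx

theorem genLocus_of_epi (g : T ⟶ S) {n : ℕ} {L : T.Modules} (hL : PicF.IsInvertible L)
    (ψ : (Scheme.Modules.pullback g).obj (FlatMod.freeMod S n) ⟶ L) [Epi ψ] :
    ⨆ j, CohB1.genLocus L (homOf (secs g ψ j)) = ⊤ := by
  rw [eq_top_iff]
  intro x _
  rw [Opens.mem_iSup]
  by_contra hcon
  push Not at hcon
  obtain ⟨U, e, hx, he⟩ := (isInvertible_iff L).1 hL x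
  let i := T.fromSpecResidueField x
  have hU : i ⁻¹ᵁ U = ⊤ := fromSpecResidueField_preimage x U hx
  have hz : (Scheme.Modules.pullbackComp i g).inv.app _ ≫ (Scheme.Modules.pullback i).map ψ = 0 := by
    apply secs_injective
    intro j
    rw [secs_pull, secs_zero]
    obtain ⟨a, ha⟩ := he.exists_eq (res L le_top (secs g ψ j))
    have h1 : CohB1.genLocus L (homOf (secs g ψ j)) ⊓ U = T.basicOpen a :=
      genLocus_inf_eq _ he (by rw [sec_homOf]; exact ha)
    have h2 : x ∉ T.basicOpen a := by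
      rw [← h1]
      exact fun h => hcon j h.1
    have h3 : i.app U a = 0 := by
      rw [← basicOpen_eq_bot_iff, ← Scheme.preimage_basicOpen]
      ext y
      simp only [Opens.coe_bot, Set.mem_empty_iff_false, iff_false]
      intro hy
      have : i y ∈ T.basicOpen a := hy
      rw [Scheme.fromSpecResidueField_apply] at this
      exact h2 this
    have h4 : res _ (i.preimage_mono (le_top : U ≤ ⊤)) (pullSec i (secs g ψ j)) = 0 := by
      rw [res_pullSec i (le_top : U ≤ ⊤), ha, pullSec_smul, h3, zero_smul]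
    have h5 : ∀ (M : (Spec (T.residueField x)).Modules) (V : (Spec (T.residueField x)).Opens) (hV : V = ⊤)
        (hV' : V ≤ ⊤) (m : Γ(M, ⊤)), res M hV' m = 0 → m = 0 := by
      intro M V hV hV' m hm
      subst hV
      simpa using hm
    exact h5 _ _ hU _ _ h4
  have hepi : Epi ((Scheme.Modules.pullback i).map ψ) := inferInstance
  have hepi2 : Epi ((Scheme.Modules.pullbackComp i g).inv.app _ ≫ (Scheme.Modules.pullback i).map ψ) :=
    epi_comp _ _
  rw [hz] at hepi2
  have h0 : (𝟙 ((Scheme.Modules.pullback i).obj L)) = 0 := by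
    rw [← cancel_epi (0 : (Scheme.Modules.pullback (i ≫ g)).obj (FlatMod.freeMod S n) ⟶
      (Scheme.Modules.pullback i).obj L)]
    simp
  have hg := he.pullSec i
  have h6 : pullSec i e = 0 := by
    have := congr(($h0).app (i ⁻¹ᵁ U) (pullSec i e))
    simpa using this
  have h7 : (1 : Γ(Spec (T.residueField x), i ⁻¹ᵁ U)) = 0 := hg.ext (by rw [h6, smul_zero, smul_zero])
  have h8 : (Spec (T.residueField x)).basicOpen (1 : Γ(Spec (T.residueField x), i ⁻¹ᵁ U)) =
    (Spec (T.residueField x)).basicOpen (0 : Γ(Spec (T.residueField x), i ⁻¹ᵁ U)) := by rw [h7]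
  rw [Scheme.basicOpen_one, Scheme.basicOpen_zero, hU] at h8
  have h9 : (IsLocalRing.closedPoint (T.residueField x)) ∈ (⊤ : (Spec (T.residueField x)).Opens) := trivial
  rw [h8] at h9
  exact h9

end Groth.Agent.Krr.H484.FreeSec
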