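import Groth.Agent.Krr.H484.PullExt
import Groth.Agent.Ega2.QCohLocal

/-!
# Projective bundles: change of the module, base change, uniqueness
-/

set_option autoImplicit false
universe u
open CategoryTheory CategoryTheory.Limits AlgebraicGeometry TopologicalSpace Opposite
open Groth.Agent.Fdesc.LocGen

namespace Groth.Agent.Krr.H484.PBTransport

open Groth.Agent.Krr.H484.PullExt

variable {X X' P P' T W : Scheme.{u}}

/-- Change of the module along an isomorphism. -/
theorem of_iso {π : P ⟶ X} {E E' : X.Modules} (ε : E ≅ E') {O1 : P.Modules}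
    {q : (Scheme.Modules.pullback π).obj E ⟶ O1} (B : KRR.IsProjBundle π E O1 q) :
    KRR.IsProjBundle π E' O1 ((Scheme.Modules.pullback π).map ε.inv ≫ q) where
  invertible := B.invertible
  epi := by
    have := B.epi
    exact epi_comp _ _
  univ := by
    intro T g L hL s' hs'
    have hs : Epi ((Scheme.Modules.pullback g).map ε.hom ≫ s') := epi_comp _ _
    have key := B.univ T g L hL ((Scheme.Modules.pullback g).map ε.hom ≫ s') hs
    refine (existsUnique_congr fun h => exists_congr fun hg => exists_congr fun e => ?_).1 key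
    rw [compat_iff, compat_iff]
    have h1 : ∀ (V : X.Opens) (m : Γ(E, V)), ((Scheme.Modules.pullback g).map ε.hom ≫ s').app (g ⁻¹ᵁ V)
        (pullSec g m) = s'.app (g ⁻¹ᵁ V) (pullSec g (ε.hom.app V m)) := by
      intro V m
      rw [← pullback_map_pullSec]
      rfl
    have h2 : ∀ (V : X.Opens) (m : Γ(E', V)), ((Scheme.Modules.pullback π).map ε.inv ≫ q).app (π ⁻¹ᵁ V)
        (pullSec π m) = q.app (π ⁻¹ᵁ V) (pullSec π (ε.inv.app V m)) := by
      intro V m
      rw [← pullback_map_pullSec]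
      rfl
    have h3 : ∀ (V : X.Opens) (m : Γ(E, V)), ε.inv.app V (ε.hom.app V m) = m := by
      intro V m
      exact congr(($(ε.hom_inv_id)).app V m)
    have h4 : ∀ (V : X.Opens) (m : Γ(E', V)), ε.hom.app V (ε.inv.app V m) = m := by
      intro V m
      exact congr(($(ε.inv_hom_id)).app V m)
    constructor
    · intro H V m
      rw [h2, H V (ε.inv.app V m), h1, h4]
    · intro H V m
      rw [h1]
      have := H V (ε.hom.app V m)
      rw [h2, h3] at this
      exact this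

/-- Two restrictions of the same section along equalities of opens. -/
theorem res_injective_of_eq (M : T.Modules) {U V : T.Opens} (h : V = U) (hle : V ≤ U) {a b : Γ(M, U)}
    (hab : res M hle a = res M hle b) : a = b := by
  subst h
  simpa using hab

theorem app_res_eq {M N : T.Modules} (φ : M ⟶ N) {U V : T.Opens} (h : V ≤ U) (a : Γ(M, U)) :
    φ.app V (res M h a) = res N h (φ.app U a) := app_res φ h a

/-- The quotient on the base change. -/
noncomputable def bcq {f' : P' ⟶ P} {π' : P' ⟶ X'} {π : P ⟶ X} {f : X' ⟶ X} (w : f' ≫ π = π' ≫ f)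
    {E : X.Modules} {O1 : P.Modules} (q : (Scheme.Modules.pullback π).obj E ⟶ O1) :
    (Scheme.Modules.pullback π').obj ((Scheme.Modules.pullback f).obj E) ⟶
      (Scheme.Modules.pullback f').obj O1 :=
  (Scheme.Modules.pullbackComp π' f).hom.app E ≫ (Scheme.Modules.pullbackCongr w.symm).hom.app E ≫
    (Scheme.Modules.pullbackComp f' π).inv.app E ≫ (Scheme.Modules.pullback f').map q

theorem bcq_pullSec {f' : P' ⟶ P} {π' : P' ⟶ X'} {π : P ⟶ X} {f : X' ⟶ X} (w : f' ≫ π = π' ≫ f)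
    {E : X.Modules} {O1 : P.Modules} (q : (Scheme.Modules.pullback π).obj E ⟶ O1)
    {V : X.Opens} (m : Γ(E, V)) :
    (bcq w q).app (π' ⁻¹ᵁ (f ⁻¹ᵁ V)) (pullSec π' (pullSec f m)) =
      res _ (preimage_le w.symm V : (π' ≫ f) ⁻¹ᵁ V ≤ (f' ≫ π) ⁻¹ᵁ V)
        (pullSec f' (q.app (π ⁻¹ᵁ V) (pullSec π m))) := by
  have h1 := comp_hom_pullSec π' f m
  have h2 := congr_pullSec w.symm m
  have h3 := comp_inv_pullSec f' π m
  have h4 := pullback_map_pullSec f' q (pullSec π m)
  change ((Scheme.Modules.pullback f').map q).app _ (((Scheme.Modules.pullbackComp f' π).inv.app E).app _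
    (((Scheme.Modules.pullbackCongr w.symm).hom.app E).app _
      (((Scheme.Modules.pullbackComp π' f).hom.app E).app _ (pullSec π' (pullSec f m))))) = _
  rw [h1]
  refine (congrArg (fun t => ((Scheme.Modules.pullback f').map q).app _
    (((Scheme.Modules.pullbackComp f' π).inv.app E).app _ t)) h2).trans ?_
  refine (app_res ((Scheme.Modules.pullbackComp f' π).inv.app E ≫ (Scheme.Modules.pullback f').map q)
    (preimage_le w.symm V : (π' ≫ f) ⁻¹ᵁ V ≤ (f' ≫ π) ⁻¹ᵁ V) (pullSec (f' ≫ π) m)).trans ?_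
  exact congrArg (res _ (preimage_le w.symm V : (π' ≫ f) ⁻¹ᵁ V ≤ (f' ≫ π) ⁻¹ᵁ V))
    ((congrArg (fun t => ((Scheme.Modules.pullback f').map q).app _ t) h3).trans h4)

/-- **Base change of a projective bundle.** -/
theorem baseChange {f' : P' ⟶ P} {π' : P' ⟶ X'} {π : P ⟶ X} {f : X' ⟶ X} (sq : IsPullback f' π' π f)
    {E : X.Modules} {O1 : P.Modules} {q : (Scheme.Modules.pullback π).obj E ⟶ O1}
    (B : KRR.IsProjBundle π E O1 q) :
    KRR.IsProjBundle π' ((Scheme.Modules.pullback f).obj E) ((Scheme.Modules.pullback f').obj O1)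
      (bcq sq.w q) where
  invertible := Groth.Agent.Ega2.QCohLocal.isFinLocFreeOfRank_one_iff.2
    (isInvertible_pullback f' (Groth.Agent.Ega2.QCohLocal.isFinLocFreeOfRank_one_iff.1 B.invertible))
  epi := by
    have h1 := B.epi
    have h2 : Epi ((Scheme.Modules.pullback f').map q) := inferInstance
    unfold bcq
    infer_instance
  univ := by
    intro T g' L hL s' hs'
    let s : (Scheme.Modules.pullback (g' ≫ f)).obj E ⟶ L := (Scheme.Modules.pullbackComp g' f).inv.app E ≫ s'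
    have hs : Epi s := epi_comp _ _
    have hsec : ∀ (V : X.Opens) (m : Γ(E, V)), s.app ((g' ≫ f) ⁻¹ᵁ V) (pullSec (g' ≫ f) m) =
        s'.app (g' ⁻¹ᵁ (f ⁻¹ᵁ V)) (pullSec g' (pullSec f m)) := fun V m =>
      congrArg (s'.app (g' ⁻¹ᵁ (f ⁻¹ᵁ V))) (comp_inv_pullSec g' f m)
    -- the key equivalence
    have key : ∀ (h' : T ⟶ P') (hg' : h' ≫ π' = g') (hg : (h' ≫ f') ≫ π = g' ≫ f)
        (e' : (Scheme.Modules.pullback h').obj ((Scheme.Modules.pullback f').obj O1) ≅ L),
        ((Scheme.Modules.pullbackCongr hg').inv.app ((Scheme.Modules.pullback f).obj E) ≫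
          (Scheme.Modules.pullbackComp h' π').inv.app ((Scheme.Modules.pullback f).obj E) ≫
          (Scheme.Modules.pullback h').map (bcq sq.w q) ≫ e'.hom = s') ↔
        ((Scheme.Modules.pullbackCongr hg).inv.app E ≫
          (Scheme.Modules.pullbackComp (h' ≫ f') π).inv.app E ≫
          (Scheme.Modules.pullback (h' ≫ f')).map q ≫
            ((Scheme.Modules.pullbackComp h' f').inv.app O1 ≫ e'.hom) = s) := by
      intro h' hg' hg e'
      have e1 : ∀ (V : X.Opens) (m : Γ(E, V)),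
          ((Scheme.Modules.pullbackComp h' f').inv.app O1 ≫ e'.hom).app ((h' ≫ f') ⁻¹ᵁ (π ⁻¹ᵁ V))
            (pullSec (h' ≫ f') (q.app (π ⁻¹ᵁ V) (pullSec π m))) =
          e'.hom.app (h' ⁻¹ᵁ (f' ⁻¹ᵁ (π ⁻¹ᵁ V))) (pullSec h' (pullSec f' (q.app (π ⁻¹ᵁ V) (pullSec π m)))) :=
        fun V m => congrArg (e'.hom.app _) (comp_inv_pullSec h' f' (q.app (π ⁻¹ᵁ V) (pullSec π m)))
      have e2 : ∀ (V : X.Opens) (m : Γ(E, V)),
          e'.hom.app (h' ⁻¹ᵁ (π' ⁻¹ᵁ (f ⁻¹ᵁ V))) (pullSec h' ((bcq sq.w q).app (π' ⁻¹ᵁ (f ⁻¹ᵁ V))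
            (pullSec π' (pullSec f m)))) =
          res L (h'.preimage_mono (preimage_le sq.w.symm V : (π' ≫ f) ⁻¹ᵁ V ≤ (f' ≫ π) ⁻¹ᵁ V))
            (e'.hom.app (h' ⁻¹ᵁ (f' ⁻¹ᵁ (π ⁻¹ᵁ V)))
              (pullSec h' (pullSec f' (q.app (π ⁻¹ᵁ V) (pullSec π m))))) := by
        intro V m
        refine (congrArg (fun t => e'.hom.app (h' ⁻¹ᵁ (π' ⁻¹ᵁ (f ⁻¹ᵁ V))) (pullSec h' t))
          (bcq_pullSec sq.w q m)).trans ?_
        refine (congrArg (e'.hom.app (h' ⁻¹ᵁ (π' ⁻¹ᵁ (f ⁻¹ᵁ V))))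
          (res_pullSec h' (preimage_le sq.w.symm V : (π' ≫ f) ⁻¹ᵁ V ≤ (f' ≫ π) ⁻¹ᵁ V)
            (pullSec f' (q.app (π ⁻¹ᵁ V) (pullSec π m)))).symm).trans ?_
        exact app_res e'.hom
          (h'.preimage_mono (preimage_le sq.w.symm V : (π' ≫ f) ⁻¹ᵁ V ≤ (f' ≫ π) ⁻¹ᵁ V))
          (pullSec h' (pullSec f' (q.app (π ⁻¹ᵁ V) (pullSec π m))))
      constructor
      · intro H
        rw [compat_iff] at H
        rw [compat_iff]
        intro V m
        refine (e1 V m).trans ?_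
        have h1 := H (f ⁻¹ᵁ V) (pullSec f m)
        have h2 := (e2 V m).symm.trans h1
        rw [← hsec] at h2
        refine res_injective_of_eq L ?_ _ (h2.trans (res_res L _ _ _).symm)
        change (h' ≫ π' ≫ f) ⁻¹ᵁ V = (h' ≫ f' ≫ π) ⁻¹ᵁ V
        rw [sq.w]
      · intro H
        rw [compat_iff] at H
        subst hg'
        have h0 : (Scheme.Modules.pullbackCongr (rfl : h' ≫ π' = h' ≫ π')).inv.app
            ((Scheme.Modules.pullback f).obj E) = 𝟙 _ := by
          simp [Scheme.Modules.pullbackCongr]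
        rw [h0, Category.id_comp]
        apply ext2
        intro V m
        have h1 := (e1 V m).symm.trans (H V m)
        have h3 : ((Scheme.Modules.pullbackComp h' π').inv.app ((Scheme.Modules.pullback f).obj E) ≫
            (Scheme.Modules.pullback h').map (bcq sq.w q) ≫ e'.hom).app ((h' ≫ π') ⁻¹ᵁ (f ⁻¹ᵁ V))
            (pullSec (h' ≫ π') (pullSec f m)) = e'.hom.app (h' ⁻¹ᵁ (π' ⁻¹ᵁ (f ⁻¹ᵁ V))) (pullSec h'
              ((bcq sq.w q).app (π' ⁻¹ᵁ (f ⁻¹ᵁ V)) (pullSec π' (pullSec f m)))) := by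
          have a1 := comp_inv_pullSec h' π' (pullSec f m)
          have a2 := pullback_map_pullSec h' (bcq sq.w q) (pullSec π' (pullSec f m))
          refine congrArg (e'.hom.app (h' ⁻¹ᵁ (π' ⁻¹ᵁ (f ⁻¹ᵁ V)))) ?_
          exact (congrArg (((Scheme.Modules.pullback h').map (bcq sq.w q)).app _) a1).trans a2
        refine h3.trans ((e2 V m).trans ((congrArg (res L _)
          (h1.trans (congrArg (res L _) (hsec V m)))).trans ((res_res L _ _ _).trans ?_)))
        exact res_refl L _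
    obtain ⟨h, ⟨hg, e, hc⟩, huniq⟩ := B.univ T (g' ≫ f) L hL s hs
    let h' : T ⟶ P' := sq.lift h g' hg
    have hf' : h' ≫ f' = h := sq.lift_fst _ _ _
    have hπ' : h' ≫ π' = g' := sq.lift_snd _ _ _
    refine ⟨h', ?_, ?_⟩
    · clear_value h'
      subst hf'
      refine ⟨hπ', ((Scheme.Modules.pullbackComp h' f').app O1) ≪≫ e, ?_⟩
      rw [key h' hπ' hg]
      simpa using hc
    · rintro h'' ⟨hg'', e'', hc''⟩
      have hg3 : (h'' ≫ f') ≫ π = g' ≫ f := by
        rw [Category.assoc, sq.w, reassoc_of% hg'']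
      rw [key h'' hg'' hg3] at hc''
      have h1 := huniq (h'' ≫ f') ⟨hg3, ((Scheme.Modules.pullbackComp h'' f').symm.app O1) ≪≫ e'', hc''⟩
      exact sq.hom_ext (h1.trans hf'.symm) (hg''.trans hπ'.symm)

end Groth.Agent.Krr.H484.PBTransport
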