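import Groth.Agent.Krr.H484.PBTransport

/-!
# Uniqueness of projective bundles
-/

set_option autoImplicit false
universe u
open CategoryTheory CategoryTheory.Limits AlgebraicGeometry TopologicalSpace Opposite
open Groth.Agent.Fdesc.LocGen

namespace Groth.Agent.Krr.H484.PBUnique

open Groth.Agent.Krr.H484.PullExt Groth.Agent.Krr.H484.PBTransport

variable {X P P' P₁ P₂ T : Scheme.{u}}

theorem id_pullSec {M : X.Modules} {V : X.Opens} (m : Γ(M, V)) :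
    ((Scheme.Modules.pullbackId X).hom.app M).app V (pullSec (𝟙 X) m) = m := by
  have h := unit_conjugateEquiv Adjunction.id
    (Scheme.Modules.pullbackPushforwardAdjunction (𝟙 X)) (Scheme.Modules.pullbackId X).hom M
  rw [Scheme.Modules.conjugateEquiv_pullbackId_hom] at h
  exact congr(($(h).app V) m).symm

/-- A morphism `h` over `X` between two projective bundles, with `h^* O₂ ≅ O₁` compatible with the quotients, from the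
universal property. -/
theorem exists_hom {E : X.Modules} {π₁ : P₁ ⟶ X} {O₁ : P₁.Modules} {q₁ : (Scheme.Modules.pullback π₁).obj E ⟶ O₁}
    (B₁ : KRR.IsProjBundle π₁ E O₁ q₁) {π₂ : P₂ ⟶ X} {O₂ : P₂.Modules}
    {q₂ : (Scheme.Modules.pullback π₂).obj E ⟶ O₂} (B₂ : KRR.IsProjBundle π₂ E O₂ q₂) :
    ∃ (h : P₁ ⟶ P₂) (hg : h ≫ π₂ = π₁) (e : (Scheme.Modules.pullback h).obj O₂ ≅ O₁),
      ∀ (V : X.Opens) (m : Γ(E, V)), e.hom.app (h ⁻¹ᵁ (π₂ ⁻¹ᵁ V)) (pullSec h (q₂.app (π₂ ⁻¹ᵁ V) (pullSec π₂ m))) =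
        res O₁ (preimage_le hg V : (h ≫ π₂) ⁻¹ᵁ V ≤ π₁ ⁻¹ᵁ V) (q₁.app (π₁ ⁻¹ᵁ V) (pullSec π₁ m)) := by
  obtain ⟨h, ⟨hg, e, hc⟩, -⟩ := B₂.univ P₁ π₁ O₁ B₁.invertible q₁ B₁.epi
  exact ⟨h, hg, e, (compat_iff _ _ _ _ _ _ _).1 hc⟩

theorem eq_id {E : X.Modules} {π₁ : P₁ ⟶ X} {O₁ : P₁.Modules} {q₁ : (Scheme.Modules.pullback π₁).obj E ⟶ O₁}
    (B₁ : KRR.IsProjBundle π₁ E O₁ q₁) {π₂ : P₂ ⟶ X} {O₂ : P₂.Modules}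
    {q₂ : (Scheme.Modules.pullback π₂).obj E ⟶ O₂}
    {h : P₁ ⟶ P₂} (hg : h ≫ π₂ = π₁) (e : (Scheme.Modules.pullback h).obj O₂ ≅ O₁)
    (he : ∀ (V : X.Opens) (m : Γ(E, V)), e.hom.app (h ⁻¹ᵁ (π₂ ⁻¹ᵁ V)) (pullSec h (q₂.app (π₂ ⁻¹ᵁ V) (pullSec π₂ m))) =
        res O₁ (preimage_le hg V : (h ≫ π₂) ⁻¹ᵁ V ≤ π₁ ⁻¹ᵁ V) (q₁.app (π₁ ⁻¹ᵁ V) (pullSec π₁ m)))
    {h' : P₂ ⟶ P₁} (hg' : h' ≫ π₁ = π₂) (e' : (Scheme.Modules.pullback h').obj O₁ ≅ O₂)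
    (he' : ∀ (V : X.Opens) (m : Γ(E, V)), e'.hom.app (h' ⁻¹ᵁ (π₁ ⁻¹ᵁ V)) (pullSec h' (q₁.app (π₁ ⁻¹ᵁ V) (pullSec π₁ m))) =
        res O₂ (preimage_le hg' V : (h' ≫ π₁) ⁻¹ᵁ V ≤ π₂ ⁻¹ᵁ V) (q₂.app (π₂ ⁻¹ᵁ V) (pullSec π₂ m))) :
    h ≫ h' = 𝟙 P₁ := by
  have huniq := B₁.univ P₁ π₁ O₁ B₁.invertible q₁ B₁.epi
  refine huniq.unique ?_ ?_
  · have hgg : (h ≫ h') ≫ π₁ = π₁ := by rw [Category.assoc, hg', hg]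
    refine ⟨hgg, ((Scheme.Modules.pullbackComp h h').symm.app O₁) ≪≫ (Scheme.Modules.pullback h).mapIso e' ≪≫ e, ?_⟩
    rw [compat_iff]
    intro V m
    have a1 := comp_inv_pullSec h h' (q₁.app (π₁ ⁻¹ᵁ V) (pullSec π₁ m))
    have a2 := pullback_map_pullSec h e'.hom (pullSec h' (q₁.app (π₁ ⁻¹ᵁ V) (pullSec π₁ m)))
    have a3 : e.hom.app (h ⁻¹ᵁ (h' ⁻¹ᵁ (π₁ ⁻¹ᵁ V))) (((Scheme.Modules.pullback h).map e'.hom).app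
        (h ⁻¹ᵁ (h' ⁻¹ᵁ (π₁ ⁻¹ᵁ V))) (((Scheme.Modules.pullbackComp h h').inv.app O₁).app
          (h ⁻¹ᵁ (h' ⁻¹ᵁ (π₁ ⁻¹ᵁ V))) (pullSec (h ≫ h') (q₁.app (π₁ ⁻¹ᵁ V) (pullSec π₁ m))))) =
        e.hom.app (h ⁻¹ᵁ (h' ⁻¹ᵁ (π₁ ⁻¹ᵁ V))) (pullSec h (e'.hom.app (h' ⁻¹ᵁ (π₁ ⁻¹ᵁ V))
          (pullSec h' (q₁.app (π₁ ⁻¹ᵁ V) (pullSec π₁ m))))) :=
      congrArg (e.hom.app (h ⁻¹ᵁ (h' ⁻¹ᵁ (π₁ ⁻¹ᵁ V)))) ((congrArg _ a1).trans a2)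
    refine a3.trans ?_
    refine (congrArg (fun t => e.hom.app (h ⁻¹ᵁ (h' ⁻¹ᵁ (π₁ ⁻¹ᵁ V))) (pullSec h t)) (he' V m)).trans ?_
    refine (congrArg (e.hom.app (h ⁻¹ᵁ (h' ⁻¹ᵁ (π₁ ⁻¹ᵁ V)))) (res_pullSec h
      (preimage_le hg' V : (h' ≫ π₁) ⁻¹ᵁ V ≤ π₂ ⁻¹ᵁ V) (q₂.app (π₂ ⁻¹ᵁ V) (pullSec π₂ m))).symm).trans ?_
    refine (app_res e.hom (h.preimage_mono (preimage_le hg' V : (h' ≫ π₁) ⁻¹ᵁ V ≤ π₂ ⁻¹ᵁ V))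
      (pullSec h (q₂.app (π₂ ⁻¹ᵁ V) (pullSec π₂ m)))).trans ?_
    refine (congrArg (res O₁ _) (he V m)).trans ?_
    exact res_res O₁ _ _ _
  · refine ⟨Category.id_comp _, (Scheme.Modules.pullbackId P₁).app O₁, ?_⟩
    rw [compat_iff]
    intro V m
    refine (id_pullSec (q₁.app (π₁ ⁻¹ᵁ V) (pullSec π₁ m))).trans ?_
    exact (res_refl O₁ _).symm

/-- **Uniqueness of projective bundles.** -/
theorem exists_iso {E : X.Modules} {π₁ : P₁ ⟶ X} {O₁ : P₁.Modules} {q₁ : (Scheme.Modules.pullback π₁).obj E ⟶ O₁}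
    (B₁ : KRR.IsProjBundle π₁ E O₁ q₁) {π₂ : P₂ ⟶ X} {O₂ : P₂.Modules}
    {q₂ : (Scheme.Modules.pullback π₂).obj E ⟶ O₂} (B₂ : KRR.IsProjBundle π₂ E O₂ q₂) :
    ∃ (h : P₁ ≅ P₂) (hg : h.hom ≫ π₂ = π₁) (e : (Scheme.Modules.pullback h.hom).obj O₂ ≅ O₁),
      (Scheme.Modules.pullbackCongr hg).inv.app E ≫ (Scheme.Modules.pullbackComp h.hom π₂).inv.app E ≫
          (Scheme.Modules.pullback h.hom).map q₂ ≫ e.hom = q₁ := by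
  obtain ⟨h, hg, e, he⟩ := exists_hom B₁ B₂
  obtain ⟨h', hg', e', he'⟩ := exists_hom B₂ B₁
  refine ⟨⟨h, h', eq_id B₁ hg e he hg' e' he', eq_id B₂ hg' e' he' hg e he⟩, hg, e, ?_⟩
  rw [compat_iff]
  exact he

end Groth.Agent.Krr.H484.PBUnique
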