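import Groth.Agent.Krr.H484.FreeSec
import Groth.Agent.CohqB.ProjLift
import Groth.Agent.VarietyB.ProjStd
import Groth.Agent.Ega2.QCohLocal

/-!
# Morphisms to `P^n_R` in terms of sections

* `coordSec n R i : Γ(O(1), ⊤)`: the coordinate `X_i` on `P^n_R = CohB1.ProjSpace n R`.
* `exists_hom`: sections `s_i` generating `L` on `T` over `g : T ⟶ Spec R` define `φ : T ⟶ P^n_R` over `Spec R` with
  `e : φ^* O(1) ≅ L`, `e (φ^* X_i) = s_i`.
* `hom_unique`: such a `φ` is unique.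
-/

set_option autoImplicit false
universe u
open CategoryTheory CategoryTheory.Limits AlgebraicGeometry TopologicalSpace Opposite
open Groth.Agent.Fdesc.LocGen

namespace Groth.Agent.Krr.H484.PnHom

open Groth.Agent.CurvesC.ProjSpaceBasic (T Dp ratio X_mem)

variable (n : ℕ) (R : Type u) [CommRing R]

/-- The coordinate `X_i` as a global section of `O(1)`. -/
noncomputable def coordSec (i : Fin (n + 1)) : Γ(Twist.twistProjSpace n R 1, ⊤) :=
  sec (X := CohB1.ProjSpace n R) (T n R i) ⊤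

theorem sec_eq {X : Scheme.{u}} {L : X.Modules} (s : Coh.structureModule X ⟶ L) (U : X.Opens) :
    Groth.Agent.CurvesC.Gen.sec s U = sec s U := rfl

theorem isGen_iff {X : Scheme.{u}} {L : X.Modules} {W : X.Opens} (e : Γ(L, W)) :
    Groth.Agent.CurvesC.Gen.IsGen L W e ↔ IsGen e := Iff.rfl

theorem isGen_coordSec (i : Fin (n + 1)) :
    IsGen (sec (X := CohB1.ProjSpace n R) (T n R i) (Dp n R i)) :=
  Groth.Agent.CurvesC.ProjSpaceBasic.isGen_T n R i

theorem basicOpen_ratio (i k : Fin (n + 1)) :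
    (CohB1.ProjSpace n R).basicOpen (ratio n R i k) = Dp n R i ⊓ Dp n R k := by
  have h1 := Groth.Agent.VarietyB.ProjStd.stdData_basicOpen (Fin (n + 1)) R i k
  have h2 : Groth.Agent.VarietyB.ProjStd.ratio (Fin (n + 1)) R i k = ratio n R i k := by
    have h3 := Groth.Agent.VarietyB.ProjStd.deh_of_isHomogeneous (Fin (n + 1)) R i (n := 1)
      (MvPolynomial.X k) (by simpa using MvPolynomial.isHomogeneous_X R k)
    exact congrArg (Proj.awayToSection (CohB1.polyGrading n R) (MvPolynomial.X i)) h3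
  rw [← h2]
  exact h1

section exist

variable {n R} {X : Scheme.{u}}

theorem pullUnit_one (φ : X ⟶ CohB1.ProjSpace n R) :
    (Groth.Agent.CurvesC.PullIso.pullUnit φ).app ⊤ (pullTop φ (one ⊤)) = one ⊤ := by
  have h := homEquiv_app_top φ (Groth.Agent.CurvesC.PullIso.pullUnit φ) (one ⊤)
  rw [← h]
  have h2 : (Scheme.Modules.pullbackPushforwardAdjunction φ).homEquiv _ _
      (Groth.Agent.CurvesC.PullIso.pullUnit φ) = ClSub.unitToPush φ := by
    rw [Groth.Agent.CurvesC.PullIso.pullUnit, Equiv.apply_symm_apply]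
  rw [h2]
  exact map_one (φ.app ⊤).hom

/-- **Existence** of the morphism given by generating sections. -/
theorem exists_hom (g : X ⟶ Spec (CommRingCat.of R)) (L : X.Modules) (s : Fin (n + 1) → Γ(L, ⊤))
    (hs : ⨆ i, CohB1.genLocus L (homOf (s i)) = ⊤) :
    ∃ φ : X ⟶ CohB1.ProjSpace n R, φ ≫ CohB1.ProjSpace.toSpec n R = g ∧
      ∃ e : (Scheme.Modules.pullback φ).obj (Twist.twistProjSpace n R 1) ≅ L, ∀ i,
        e.hom.app ⊤ (pullTop φ (coordSec n R i)) = s i := by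
  obtain ⟨φ, -, h1, -, -, e, he⟩ := Groth.Agent.CurvesC.ProjMap.exists_morphism g L
    (fun i => homOf (s i)) hs
  refine ⟨φ, h1, e, fun i => ?_⟩
  have h2 := congr(($(he i)).app ⊤ (pullTop φ (one ⊤)))
  have h3 : ((Scheme.Modules.pullback φ).map (T n R i)).app ⊤ (pullTop φ (one ⊤)) =
      pullTop φ (coordSec n R i) := pullback_map_pullSec φ (T n R i) (U := ⊤) (one ⊤)
  have h4 : e.hom.app ⊤ (((Scheme.Modules.pullback φ).map (T n R i)).app ⊤ (pullTop φ (one ⊤))) =
      (homOf (s i)).app ⊤ ((Groth.Agent.CurvesC.PullIso.pullUnit φ).app ⊤ (pullTop φ (one ⊤))) := h2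
  rw [h3, pullUnit_one] at h4
  have h5 : (homOf (s i)).app ⊤ (one ⊤) = s i := by
    have := sec_homOf (s i) ⊤
    rw [res_refl] at this
    exact this
  rw [h4, h5]

/-- The section of `φ^* O(1)` corresponding to a coordinate, restricted to an open. -/
theorem sec_homOf_eq {L : X.Modules} (φ : X ⟶ CohB1.ProjSpace n R)
    (e : (Scheme.Modules.pullback φ).obj (Twist.twistProjSpace n R 1) ≅ L) (i : Fin (n + 1))
    (V : (CohB1.ProjSpace n R).Opens) :
    sec (homOf (e.hom.app ⊤ (pullTop φ (coordSec n R i)))) (φ ⁻¹ᵁ V) =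
      e.hom.app (φ ⁻¹ᵁ V) (pullSec φ (sec (X := CohB1.ProjSpace n R) (T n R i) V)) := by
  rw [sec_homOf, ← app_res]
  have h := res_pullSec φ (le_top : V ≤ ⊤) (coordSec n R i)
  exact congrArg (e.hom.app (φ ⁻¹ᵁ V)) (h.trans (by rw [coordSec, res_sec]))

/-- Ratios pull back to ratios. -/
theorem ratio_smul_sec {L : X.Modules} (φ : X ⟶ CohB1.ProjSpace n R)
    (e : (Scheme.Modules.pullback φ).obj (Twist.twistProjSpace n R 1) ≅ L) (i j : Fin (n + 1)) :
    (φ.app (Dp n R i) (ratio n R i j) : Γ(X, φ ⁻¹ᵁ Dp n R i)) •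
      sec (homOf (e.hom.app ⊤ (pullTop φ (coordSec n R i)))) (φ ⁻¹ᵁ Dp n R i) =
      sec (homOf (e.hom.app ⊤ (pullTop φ (coordSec n R j)))) (φ ⁻¹ᵁ Dp n R i) := by
  rw [sec_homOf_eq, sec_homOf_eq, ← Scheme.Modules.Hom.app_smul, ← pullSec_smul]
  have h := Groth.Agent.CurvesC.ProjSpaceBasic.ratio_smul n R i j
  exact congrArg (fun t => e.hom.app (φ ⁻¹ᵁ Dp n R i) (pullSec φ t)) h

theorem isGen_sec_preimage {L : X.Modules} (φ : X ⟶ CohB1.ProjSpace n R)
    (e : (Scheme.Modules.pullback φ).obj (Twist.twistProjSpace n R 1) ≅ L) (i : Fin (n + 1)) :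
    IsGen (sec (homOf (e.hom.app ⊤ (pullTop φ (coordSec n R i)))) (φ ⁻¹ᵁ Dp n R i)) := by
  rw [sec_homOf_eq]
  exact ((isGen_coordSec n R i).pullSec φ).app e.hom

/-- The locus where the `i`-th coordinate generates is the preimage of the standard open. -/
theorem genLocus_eq {L : X.Modules} (φ : X ⟶ CohB1.ProjSpace n R)
    (e : (Scheme.Modules.pullback φ).obj (Twist.twistProjSpace n R 1) ≅ L) (i : Fin (n + 1)) :
    CohB1.genLocus L (homOf (e.hom.app ⊤ (pullTop φ (coordSec n R i)))) = φ ⁻¹ᵁ Dp n R i := by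
  apply le_antisymm
  · intro x hx
    have hx' : φ x ∈ ⨆ k, Dp n R k := by
      rw [Groth.Agent.CurvesC.ProjSpaceBasic.iSup_Dp]; trivial
    obtain ⟨k, hk⟩ := Opens.mem_iSup.1 hx'
    have h1 := genLocus_inf_eq (homOf (e.hom.app ⊤ (pullTop φ (coordSec n R i))))
      (isGen_sec_preimage φ e k) (ratio_smul_sec φ e k i).symm
    rw [← Scheme.preimage_basicOpen, basicOpen_ratio] at h1
    have h2 : x ∈ CohB1.genLocus L (homOf (e.hom.app ⊤ (pullTop φ (coordSec n R i)))) ⊓ φ ⁻¹ᵁ Dp n R k :=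
      ⟨hx, hk⟩
    rw [h1] at h2
    exact h2.2
  · exact (le_genLocus_iff _ _).2 (isGen_sec_preimage φ e i)

theorem iSup_genLocus {L : X.Modules} (φ : X ⟶ CohB1.ProjSpace n R)
    (e : (Scheme.Modules.pullback φ).obj (Twist.twistProjSpace n R 1) ≅ L) :
    ⨆ i, CohB1.genLocus L (homOf (e.hom.app ⊤ (pullTop φ (coordSec n R i)))) = ⊤ := by
  simp only [genLocus_eq]
  rw [← Scheme.Hom.preimage_iSup, Groth.Agent.CurvesC.ProjSpaceBasic.iSup_Dp]
  rfl

theorem isMapOf {L : X.Modules} (φ : X ⟶ CohB1.ProjSpace n R)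
    (e : (Scheme.Modules.pullback φ).obj (Twist.twistProjSpace n R 1) ≅ L)
    (g : X ⟶ Spec (CommRingCat.of R)) (hg : φ ≫ CohB1.ProjSpace.toSpec n R = g) :
    Groth.Agent.CurvesC.ProjMap.IsMapOf g L
      (fun i => homOf (e.hom.app ⊤ (pullTop φ (coordSec n R i)))) φ := by
  refine Groth.Agent.CohqB.ProjLift.isMapOf_of hg (fun i => (genLocus_eq φ e i).le) (fun i j => ?_)
  have h1 := ratio_smul_sec φ e i j
  have h2 := congrArg (res L (genLocus_eq φ e i).le) h1
  rw [res_smul, res_sec, res_sec] at h2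
  exact h2

/-- **Uniqueness** of the morphism given by generating sections. -/
theorem hom_unique {g : X ⟶ Spec (CommRingCat.of R)} {L : X.Modules} {s : Fin (n + 1) → Γ(L, ⊤)}
    {φ φ' : X ⟶ CohB1.ProjSpace n R} (hφ : φ ≫ CohB1.ProjSpace.toSpec n R = g)
    (hφ' : φ' ≫ CohB1.ProjSpace.toSpec n R = g)
    (e : (Scheme.Modules.pullback φ).obj (Twist.twistProjSpace n R 1) ≅ L)
    (e' : (Scheme.Modules.pullback φ').obj (Twist.twistProjSpace n R 1) ≅ L)
    (he : ∀ i, e.hom.app ⊤ (pullTop φ (coordSec n R i)) = s i)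
    (he' : ∀ i, e'.hom.app ⊤ (pullTop φ' (coordSec n R i)) = s i) : φ = φ' := by
  have h1 := isMapOf φ e g hφ
  have h2 := isMapOf φ' e' g hφ'
  have h3 := iSup_genLocus φ e
  simp only [he] at h1 h3
  simp only [he'] at h2
  exact Groth.Agent.CohqB.ProjLift.IsMapOf.unique h3 h1 h2

end exist

end Groth.Agent.Krr.H484.PnHom
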