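import Groth.Prelude.Def_KRR
import Groth.Agent.Fdesc.LocGenPullback

/-!
# Morphisms out of pull-backs are determined by pulled back sections

* `ext1`, `ext2`: morphisms out of `g^*E`, `a^*b^*E` agreeing on pulled back sections are equal.
* `congr_pullSec`: `pullbackCongr` on pulled back sections.
* `compat_iff`: the compatibility in `KRR.IsProjBundle` in terms of sections.
-/

set_option autoImplicit false
universe u
open CategoryTheory CategoryTheory.Limits AlgebraicGeometry TopologicalSpace Opposite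
open Groth.Agent.Fdesc.LocGen

namespace Groth.Agent.Krr.H484.PullExt

variable {X Y Z T P : Scheme.{u}}

theorem ext1 (g : T ⟶ X) {E : X.Modules} {L : T.Modules} {ψ ψ' : (Scheme.Modules.pullback g).obj E ⟶ L}
    (h : ∀ (V : X.Opens) (m : Γ(E, V)), ψ.app (g ⁻¹ᵁ V) (pullSec g m) = ψ'.app (g ⁻¹ᵁ V) (pullSec g m)) :
    ψ = ψ' := by
  apply ((Scheme.Modules.pullbackPushforwardAdjunction g).homEquiv _ _).injective
  apply Scheme.Modules.hom_ext
  intro V
  ext m
  rw [homEquiv_app, homEquiv_app]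
  exact h V m

/-- Evaluation of `pullbackComp` on pulled back sections. -/
theorem comp_inv_pullSec (f : X ⟶ Y) (g : Y ⟶ Z) {M : Z.Modules} {U : Z.Opens} (m : Γ(M, U)) :
    ((Scheme.Modules.pullbackComp f g).inv.app M).app (f ⁻¹ᵁ (g ⁻¹ᵁ U)) (pullSec (f ≫ g) m) =
      pullSec f (pullSec g m) := pullSec_comp f g m

theorem comp_hom_pullSec (f : X ⟶ Y) (g : Y ⟶ Z) {M : Z.Modules} {U : Z.Opens} (m : Γ(M, U)) :
    ((Scheme.Modules.pullbackComp f g).hom.app M).app (f ⁻¹ᵁ (g ⁻¹ᵁ U)) (pullSec f (pullSec g m)) =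
      pullSec (f ≫ g) m := pullSec_comp' f g m

theorem ext2 (a : T ⟶ Y) (b : Y ⟶ X) {E : X.Modules} {L : T.Modules}
    {ψ ψ' : (Scheme.Modules.pullback a).obj ((Scheme.Modules.pullback b).obj E) ⟶ L}
    (h : ∀ (V : X.Opens) (m : Γ(E, V)), ψ.app (a ⁻¹ᵁ (b ⁻¹ᵁ V)) (pullSec a (pullSec b m)) =
      ψ'.app (a ⁻¹ᵁ (b ⁻¹ᵁ V)) (pullSec a (pullSec b m))) : ψ = ψ' := by
  rw [← cancel_epi ((Scheme.Modules.pullbackComp a b).inv.app E)]
  apply ext1
  intro V m
  have h1 := comp_inv_pullSec a b m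
  have h2 := h V m
  rw [← h1] at h2
  exact h2

/-- `pullbackCongr` on pulled back sections. -/
theorem congr_pullSec {f f' : T ⟶ X} (h : f = f') {M : X.Modules} {V : X.Opens} (m : Γ(M, V)) :
    ((Scheme.Modules.pullbackCongr h).hom.app M).app (f ⁻¹ᵁ V) (pullSec f m) =
      res _ (by subst h; exact le_rfl) (pullSec f' m) := by
  subst h
  have : (Scheme.Modules.pullbackCongr (rfl : f = f)).hom.app M = 𝟙 _ := by
    simp [Scheme.Modules.pullbackCongr]
  rw [this, res_refl]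
  rfl

theorem preimage_le {f f' : T ⟶ X} (h : f = f') (V : X.Opens) : f ⁻¹ᵁ V ≤ f' ⁻¹ᵁ V := by
  subst h; exact le_rfl

/-- The compatibility of `KRR.IsProjBundle` in terms of sections. -/
theorem compat_iff (π : P ⟶ X) {E : X.Modules} {O1 : P.Modules} (q : (Scheme.Modules.pullback π).obj E ⟶ O1)
    (g : T ⟶ X) {L : T.Modules} (s : (Scheme.Modules.pullback g).obj E ⟶ L) (h : T ⟶ P) (hg : h ≫ π = g)
    (e : (Scheme.Modules.pullback h).obj O1 ⟶ L) :
    ((Scheme.Modules.pullbackCongr hg).inv.app E ≫ (Scheme.Modules.pullbackComp h π).inv.app E ≫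
        (Scheme.Modules.pullback h).map q ≫ e = s) ↔
      ∀ (V : X.Opens) (m : Γ(E, V)), e.app (h ⁻¹ᵁ (π ⁻¹ᵁ V)) (pullSec h (q.app (π ⁻¹ᵁ V) (pullSec π m))) =
        res L (preimage_le hg V : (h ≫ π) ⁻¹ᵁ V ≤ g ⁻¹ᵁ V) (s.app (g ⁻¹ᵁ V) (pullSec g m)) := by
  subst hg
  have h0 : (Scheme.Modules.pullbackCongr (rfl : h ≫ π = h ≫ π)).inv.app E = 𝟙 _ := by
    simp [Scheme.Modules.pullbackCongr]
  rw [h0, Category.id_comp]
  have key : ∀ (V : X.Opens) (m : Γ(E, V)), ((Scheme.Modules.pullbackComp h π).inv.app E ≫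
        (Scheme.Modules.pullback h).map q ≫ e).app ((h ≫ π) ⁻¹ᵁ V) (pullSec (h ≫ π) m) =
      e.app (h ⁻¹ᵁ (π ⁻¹ᵁ V)) (pullSec h (q.app (π ⁻¹ᵁ V) (pullSec π m))) := by
    intro V m
    have h1 := comp_inv_pullSec h π m
    have h2 := pullback_map_pullSec h q (pullSec π m)
    have h3 : ((Scheme.Modules.pullback h).map q).app (h ⁻¹ᵁ (π ⁻¹ᵁ V))
        (((Scheme.Modules.pullbackComp h π).inv.app E).app (h ⁻¹ᵁ (π ⁻¹ᵁ V)) (pullSec (h ≫ π) m)) =
          pullSec h (q.app (π ⁻¹ᵁ V) (pullSec π m)) := by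
      rw [h1, h2]
    exact congrArg (e.app (h ⁻¹ᵁ (π ⁻¹ᵁ V))) h3
  constructor
  · intro hs V m
    rw [← key, hs, res_refl]
  · intro hs
    apply ext1
    intro V m
    rw [key, hs V m, res_refl]

end Groth.Agent.Krr.H484.PullExt
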